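import Cfsg.Agent.E7P.Cfg
import Cfsg.Agent.E7P.Ag.Po
import Cfsg.Agent.E7P.Ag.Ri
import Cfsg.Agent.E7P.Ag.Fr
import Cfsg.Agent.E7P.Ag.FrL
import Cfsg.Agent.E7P.Ag.SiMain
import Cfsg.Agent.E7P.Ag.AbU
import Cfsg.Agent.E7P.Ag.Se
import Cfsg.Agent.E7P.Ag.Rts
import Cfsg.Agent.E7P.Ag.Lift
import Cfsg.Agent.E7P.Top.Ssc
import Cfsg.Agent.E7P.Red.Main
import Cfsg.Agent.E7P.Nt.All
import Cfsg.Agent.E7P.En1.Main
import Cfsg.Agent.E7P.En2.Main
import Cfsg.Agent.E7P.Bl.Main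
import Cfsg.Agent.E7P.Ex.Fin
import Cfsg.Agent.E7P.Sp.Main
import Cfsg.Agent.E7P.Ns.Main
import Cfsg.Agent.E7P.A1.Cnt
import Cfsg.Agent.E7P.E27.Main
import Cfsg.Agent.E7P.E81.Main
import Cfsg.Agent.E7P.P2.Two

/-!
# S5932: the assembly (helper32)

`asm_box : A1.FIN → Box fun _ _ _ => True`.
-/

set_option autoImplicit false

namespace Cfsg.Agent.E7P

open Cfsg Cfsg.Lie Matrix Module
open Cfsg.Agent.H943.E7V.Block (D1 rho)
open Cfsg.Agent.R2.T1 Cfsg.Agent.E7P.Kf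

universe u v

namespace Sit

variable {p a b : ℕ} {F : Type u} {K : Type v} {k : Type u} [Field F] [Fintype F] [Field K] [Fintype K] [Field k]
  (S : Sit p a b F K k)

/-- **ALG** -/
theorem asm_alg (hp : p ≠ 2) {I : Type} [Fintype I] [DecidableEq I] {c : I → Fin 7 → ℤ} {R : Gh k →* Matrix I I k}
    (hR : WRep c R) (hi : S.IRRF R) (hr : S.RED R) (T : S.TorW R) : Nonempty S.Alg := by
  have := S.closed
  have := S.chark
  have hs := S.ssc hp
  have hF := frame S.prime S.alg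
  have h1 := S.sig hp hR hi hr (S.nofix hp hs) T
  obtain ⟨C⟩ := S.sec hs hR T (S.abu hF h1)
  obtain ⟨X⟩ := S.rts h1 C (ringd S.prime S.alg) (ringe S.prime S.alg) (count S.prime S.hb) (addpoly S.prime) uniq
  exact S.alg_of_rts hF (liepoly S.prime S.alg) X

/-- **END** -/
theorem asm_end (hp : p ≠ 2) (h : Nonempty S.Alg) : 17 ≤ p ∧ a = b := by
  obtain ⟨A⟩ := h
  have h1 : A.n = 1 := by
    by_contra h1
    have := A.npos
    exact S.end2 hp A (by omega)
  exact ⟨S.end1 hp (S.ssc hp) A h1, A.ab.trans (by rw [h1, one_mul])⟩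

theorem asm_V (hp : p ≠ 2) (h : Nonempty (S.TorW (rho k))) : 17 ≤ p ∧ a = b :=
  h.elim fun T => S.asm_end hp (S.asm_alg hp wrep_V S.irrfV (S.redV hp) T)

theorem asm_split (h5 : 5 ≤ p) (h : S.Split) : 17 ≤ p ∧ a = b :=
  have hp : p ≠ 2 := by omega
  (S.ex_exact h5 (S.ssc hp) h).elim fun T => S.asm_end hp (S.asm_alg hp wrep_L (S.irrfL hp) (S.redL hp) T)

end Sit

/-- **the assembly** -/
theorem asm_box (hF : A1.FIN) : Box.{u, v} fun _ _ _ => True := by
  intro p a b F K k _ _ _ _ _ S _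
  by_cases hp : p = 2
  · exact boxTwo p a b F K k S hp
  have hs := S.ssc hp
  have h1 : a = 1 → 17 ≤ p ∧ a = b := fun h => by
    have h2 := S.eleven
    rw [h, pow_one] at h2
    exact S.asm_split (by omega) (S.a1_split_of hF h (S.nofix hp hs))
  rcases cases_num S.prime S.ha S.eleven S.ne25 with h | h | h | h | h | h
  · exact absurd h hp
  · exact h1 h.1
  · exact h1 h.1
  · rcases h.2 with h2 | h2
    · exact S.asm_V hp (S.e27' h.1 h2 hs)
    · exact S.asm_V hp (S.e81 h.1 h2 hs)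
  · refine S.asm_split (by omega) (S.sp_split h (S.nofix hp hs) ?_)
    intro _ _ _ _ _ n hn h2 h3
    exact S.ns_main' (by omega) hn (fun j hj => (h2 j hj).1) (fun j hj => (h2 j hj).2) h3
  · exact S.exists_frame.elim fun f => S.asm_V hp (S.blue h f)

end Cfsg.Agent.E7P
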